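/-
An explicit Sylow 2-subgroup of the Mathieu group of degree 24.

Main result: `exists_model`: every Sylow 2-subgroup is the image of the numbers below 1024
under a map turning `mulW` into multiplication.
-/
import Cfsg.Agent.Lib.M24Sylow.Data
import Cfsg.Agent.Lib.Golay.M24

set_option autoImplicit false
open Cfsg Cfsg.Agent.Golay

namespace Cfsg.Agent.M24Sylow

/-- Right multiplication by the `k`th generator. -/
def step (a k : ℕ) : ℕ :=
  bif k == 0 then a ^^^ 1
  else bif k == 1 then a ^^^ 2 ^^^ ((a &&& 1) <<< 4)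
  else bif k == 2 then a ^^^ 4 ^^^ (((a >>> 4) &&& 1) <<< 7) ^^^ (((a >>> 1) &&& 1) <<< 5)
  else a ^^^ 8 ^^^ (((a >>> 7) &&& 1) <<< 9) ^^^ (((a >>> 5) &&& 1) <<< 8)
    ^^^ (((a >>> 2) &&& 1) <<< 6)

/-- Right multiplication by a word. -/
def run : ℕ → ℕ → ℕ → ℕ
  | 0, a, _ => a
  | f + 1, a, w => bif w % 5 == 0 then a else run f (step a (w % 5 - 1)) (w / 5)

def perm (a : ℕ) : ℕ := look permTbl 120 a

def word (a : ℕ) : ℕ := look wordTbl 28 a

/-- The product of two elements. -/
def mulW (a b : ℕ) : ℕ := run 12 a (word b)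

def lab (i : ℕ) : ℕ := (labTbl >>> (4 * i)) &&& 15

/-- The element number read off from the images of four points. -/
def decode (i j k l : ℕ) : ℕ :=
  look decodeTbl 10 (lab i ||| (((lab j ^^^ lab i) >>> 1) <<< 4)
    ||| (((lab k ^^^ lab i) >>> 2) <<< 7) ||| (((lab l ^^^ lab i) >>> 3) <<< 9))

def all512 (f : ℕ → Bool) : Bool :=
  (List.range 16).all fun i => (List.range 32).all fun j => f (32 * i + j)

def all1024 (f : ℕ → Bool) : Bool :=
  (List.range 32).all fun i => (List.range 32).all fun j => f (32 * i + j)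

theorem of_all512 {f : ℕ → Bool} (h : all512 f = true) {a : ℕ} (ha : a < 512) : f a = true := by
  have := List.all_eq_true.mp (List.all_eq_true.mp h (a / 32) (List.mem_range.mpr (by omega)))
    (a % 32) (List.mem_range.mpr (by omega))
  rwa [Nat.div_add_mod] at this

theorem of_all1024 {f : ℕ → Bool} (h : all1024 f = true) {a : ℕ} (ha : a < 1024) :
    f a = true := by
  have := List.all_eq_true.mp (List.all_eq_true.mp h (a / 32) (List.mem_range.mpr (by omega)))
    (a % 32) (List.mem_range.mpr (by omega))
  rwa [Nat.div_add_mod] at this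

theorem of_all_range {n : ℕ} {f : ℕ → Bool} (h : (List.range n).all f = true) {a : ℕ}
    (ha : a < n) : f a = true :=
  List.all_eq_true.mp h a (List.mem_range.mpr ha)

theorem step_lt {a : ℕ} (ha : a < 1024) {k : ℕ} (hk : k < 4) : step a k < 1024 := by
  have h : (all1024 fun a => (List.range 4).all fun k => Nat.ble (step a k + 1) 1024) = true := by
    decide +kernel
  have := of_all_range (of_all1024 h ha) hk
  simp only [Nat.ble_eq] at this
  omega

theorem two_pow_lt {k : ℕ} (hk : k < 4) : 2 ^ k < 1024 := by interval_cases k <;> norm_num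

theorem step_zero {k : ℕ} (hk : k < 4) : step 0 k = 2 ^ k := by interval_cases k <;> rfl

theorem digit_lt {w : ℕ} : w % 5 - 1 < 4 := by omega

theorem run_lt : ∀ (f a w : ℕ), a < 1024 → run f a w < 1024
  | 0, a, w, ha => ha
  | f + 1, a, w, ha => by
    cases h : w % 5 == 0
    · simp only [run, h, cond_false]
      exact run_lt f _ _ (step_lt ha digit_lt)
    · simp only [run, h, cond_true]
      exact ha

theorem mulW_lt {a : ℕ} (ha : a < 1024) (b : ℕ) : mulW a b < 1024 := run_lt _ _ _ ha

theorem run_word {a : ℕ} (ha : a < 1024) : run 12 0 (word a) = a := by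
  have h : (all1024 fun a => run 12 0 (word a) == a) = true := by decide +kernel
  exact beq_iff_eq.mp (of_all1024 h ha)

theorem mulW_zero_left {a : ℕ} (ha : a < 1024) : mulW 0 a = a := run_word ha

theorem step_eq_mulW {a : ℕ} (ha : a < 1024) {k : ℕ} (hk : k < 4) :
    step a k = mulW a (2 ^ k) := by
  have h : (all1024 fun a => (List.range 4).all fun k => step a k == mulW a (2 ^ k)) = true := by
    decide +kernel
  exact beq_iff_eq.mp (of_all_range (of_all1024 h ha) hk)

/-- A map respecting the four generators respects `mulW`. -/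
theorem map_mulW {G : Type*} [Monoid G] (φ : ℕ → G) (h0 : φ 0 = 1)
    (hs : ∀ a < 1024, ∀ k < 4, φ (step a k) = φ a * φ (2 ^ k)) {a b : ℕ} (ha : a < 1024)
    (hb : b < 1024) : φ (mulW a b) = φ a * φ b := by
  have key : ∀ (f a w : ℕ), a < 1024 → φ (run f a w) = φ a * φ (run f 0 w) := by
    intro f
    induction f with
    | zero => intro a w _; simp [run, h0]
    | succ f ih =>
      intro a w ha
      cases h : w % 5 == 0
      · simp only [run, h, cond_false]
        rw [ih _ _ (step_lt ha digit_lt), ih _ _ (step_lt (by norm_num) digit_lt),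
          step_zero digit_lt, hs a ha _ digit_lt, mul_assoc]
      · simp [run, h, h0]
  rw [mulW, key _ _ _ ha, run_word hb]

theorem perm_valid {a : ℕ} (ha : a < 1024) : validPerm (perm a) = true :=
  of_all1024 (f := fun a => validPerm (perm a)) (by decide +kernel) ha

theorem perm_step {a : ℕ} (ha : a < 1024) {k : ℕ} (hk : k < 4) :
    toPerm (perm (step a k)) = toPerm (perm a) * toPerm (perm (2 ^ k)) := by
  have h : (all1024 fun a => (List.range 4).all fun k => (List.range 24).all fun i =>
      fn (perm (step a k)) i == fn (perm a) (fn (perm (2 ^ k)) i)) = true := by decide +kernel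
  refine Equiv.ext fun p => idx_injective ?_
  rw [Equiv.Perm.mul_apply, idx_toPerm (perm_valid (step_lt ha hk)), idx_toPerm (perm_valid ha),
    idx_toPerm (perm_valid (two_pow_lt hk))]
  exact beq_iff_eq.mp (of_all_range (of_all_range (of_all1024 h ha) hk) (idx_lt p))

theorem perm_zero : toPerm (perm 0) = 1 := by
  have h : ((List.range 24).all fun i => fn (perm 0) i == i) = true := by decide +kernel
  refine Equiv.ext fun p => idx_injective ?_
  rw [idx_toPerm (perm_valid (by norm_num)), Equiv.Perm.one_apply]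
  exact beq_iff_eq.mp (of_all_range h (idx_lt p))

theorem perm_mul {a b : ℕ} (ha : a < 1024) (hb : b < 1024) :
    toPerm (perm (mulW a b)) = toPerm (perm a) * toPerm (perm b) :=
  map_mulW (fun a => toPerm (perm a)) perm_zero (fun _ h _ hk => perm_step h hk) ha hb

theorem gen_mem {k : ℕ} (hk : k < 4) : toPerm (perm (2 ^ k)) ∈ M24 := by
  have h : ((List.range 4).all fun k => isAut (perm (2 ^ k))) = true := by decide +kernel
  exact toPerm_mem_M24 (of_all_range h hk)

theorem perm_mem {a : ℕ} (ha : a < 1024) : toPerm (perm a) ∈ M24 := by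
  have key : ∀ (f a w : ℕ), a < 1024 → toPerm (perm a) ∈ M24 →
      toPerm (perm (run f a w)) ∈ M24 := by
    intro f
    induction f with
    | zero => exact fun a w _ hm => hm
    | succ f ih =>
      intro a w ha hm
      cases h : w % 5 == 0
      · simp only [run, h, cond_false]
        refine ih _ _ (step_lt ha digit_lt) ?_
        rw [perm_step ha digit_lt]
        exact mul_mem hm (gen_mem digit_lt)
      · simpa only [run, h, cond_true] using hm
  have := key 12 0 (word a) (by norm_num) (by rw [perm_zero]; exact one_mem _)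
  rwa [run_word ha] at this

theorem perm_injective {a b : ℕ} (ha : a < 1024) (hb : b < 1024)
    (h : toPerm (perm a) = toPerm (perm b)) : a = b := by
  have hd : (all1024 fun a => decode (fn (perm a) 4) (fn (perm a) 6) (fn (perm a) 7)
      (fn (perm a) 8) == a) = true := by decide +kernel
  have e : ∀ i < 24, fn (perm a) i = fn (perm b) i := by
    intro i hi
    have := congrArg (fun g => idx (g (pt i))) h
    simpa [idx_toPerm (perm_valid ha), idx_toPerm (perm_valid hb), idx_pt hi] using this
  have h1 := beq_iff_eq.mp (of_all1024 hd ha)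
  rw [e 4 (by norm_num), e 6 (by norm_num), e 7 (by norm_num), e 8 (by norm_num),
    beq_iff_eq.mp (of_all1024 hd hb)] at h1
  exact h1.symm

/-- The element of the Mathieu group with a given number. -/
noncomputable def elt (a : ℕ) : ↥M24 :=
  if h : a < 1024 then ⟨toPerm (perm a), perm_mem h⟩ else 1

theorem elt_val {a : ℕ} (ha : a < 1024) : (elt a).1 = toPerm (perm a) := by
  rw [elt, dif_pos ha]

theorem elt_mul {a b : ℕ} (ha : a < 1024) (hb : b < 1024) :
    elt (mulW a b) = elt a * elt b := by
  apply Subtype.ext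
  rw [Subgroup.coe_mul, elt_val (mulW_lt ha b), elt_val ha, elt_val hb, perm_mul ha hb]

/-- The explicit Sylow subgroup as a submonoid. -/
noncomputable def modelMonoid : Submonoid ↥M24 where
  carrier := {x | ∃ a < 1024, elt a = x}
  mul_mem' := by
    rintro _ _ ⟨a, ha, rfl⟩ ⟨b, hb, rfl⟩
    exact ⟨_, mulW_lt ha b, elt_mul ha hb⟩
  one_mem' := ⟨0, by norm_num, Subtype.ext (by
    rw [elt_val (by norm_num), perm_zero]; rfl)⟩

/-- The explicit Sylow subgroup. -/
noncomputable def model : Subgroup ↥M24 where
  toSubmonoid := modelMonoid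
  inv_mem' := by
    intro x hx
    have : x⁻¹ = x ^ (orderOf x - 1) := by
      refine inv_eq_of_mul_eq_one_right ?_
      rw [← pow_succ', Nat.sub_add_cancel (orderOf_pos x), pow_orderOf_eq_one]
    show x⁻¹ ∈ modelMonoid
    rw [this]
    exact pow_mem (show x ∈ modelMonoid from hx) _

theorem natCard_model : Nat.card ↥model = 1024 := by
  have hb : Function.Bijective
      (fun a : Fin 1024 => (⟨elt a, a, a.2, rfl⟩ : ↥model)) := by
    constructor
    · intro a b h
      have h' := congrArg (fun x : ↥model => x.1.1) h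
      simp only [elt_val a.2, elt_val b.2] at h'
      exact Fin.ext (perm_injective a.2 b.2 h')
    · rintro ⟨x, a, ha, rfl⟩
      exact ⟨⟨a, ha⟩, rfl⟩
  rw [← Nat.card_eq_of_bijective _ hb, Nat.card_fin]

theorem exists_model (P : Sylow 2 ↥M24) :
    ∃ e : ℕ → ↥(P : Subgroup ↥M24), (∀ a < 1024, ∀ b < 1024, e (mulW a b) = e a * e b) ∧
      (∀ a < 1024, ∀ b < 1024, e a = e b → a = b) ∧ ∀ x, ∃ a < 1024, e a = x := by
  haveI : Fact (Nat.Prime 2) := ⟨Nat.prime_two⟩
  have hP : IsPGroup 2 ↥model := IsPGroup.of_card (n := 10) (by rw [natCard_model]; norm_num)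
  obtain ⟨Q, hQ⟩ := hP.exists_le_sylow
  have hcard : Nat.card ↥(Q : Subgroup ↥M24) = 1024 := by
    obtain ⟨n, hn⟩ := IsPGroup.iff_card.mp Q.isPGroup'
    have h1 := Subgroup.card_dvd_of_le hQ
    have h2 := Subgroup.card_subgroup_dvd_card (Q : Subgroup ↥M24)
    rw [natCard_model, hn] at h1
    rw [natCard_M24, hn] at h2
    rw [hn]
    have h10 : 10 ≤ n := by
      by_contra hc
      have := Nat.le_of_dvd (Nat.two_pow_pos n) h1
      have : 2 ^ n ≤ 2 ^ 9 := Nat.pow_le_pow_right (by norm_num) (by omega)
      omega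
    have h11 : ¬ 11 ≤ n := fun hc =>
      absurd ((Nat.pow_dvd_pow 2 hc).trans h2) (by norm_num)
    have : n = 10 := by omega
    rw [this]; norm_num
  have hEq : model = (Q : Subgroup ↥M24) :=
    Subgroup.eq_of_le_of_card_ge hQ (by rw [hcard, natCard_model])
  let i : ↥model ≃* ↥(P : Subgroup ↥M24) :=
    (MulEquiv.subgroupCongr hEq).trans (Sylow.equiv Q P)
  refine ⟨fun a => if h : a < 1024 then i ⟨elt a, a, h, rfl⟩ else 1, ?_, ?_, ?_⟩
  · intro a ha b hb
    simp only [dif_pos ha, dif_pos hb, dif_pos (mulW_lt ha b)]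
    rw [← map_mul]
    exact congrArg i (Subtype.ext (elt_mul ha hb))
  · intro a ha b hb h
    simp only [dif_pos ha, dif_pos hb] at h
    have h' := congrArg (fun x : ↥model => x.1.1) (i.injective h)
    simp only [elt_val ha, elt_val hb] at h'
    exact perm_injective ha hb h'
  · intro x
    obtain ⟨a, ha, h⟩ := (i.symm x).2
    refine ⟨a, ha, ?_⟩
    simp only [dif_pos ha]
    rw [show (⟨elt a, a, ha, rfl⟩ : ↥model) = i.symm x from Subtype.ext h, i.apply_symm_apply]

end Cfsg.Agent.M24Sylow
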