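/-
The central quotient of a Sylow 2-subgroup of the Mathieu group of degree 24.

Main results: `coord`: numbering of the quotient; `coatom_center_le`, `exists_abelian64`,
`abelian64_unique`.
-/
import Cfsg.Prelude.Def_Transfer
import Cfsg.Agent.Lib.M24Sylow.Basic
import Cfsg.Agent.Lib.BurnsideBasis.Basic

set_option autoImplicit false
open Cfsg

namespace Cfsg.Agent.M24Sylow

/-- Multiplication modulo the centre. -/
def mulS (a b : ℕ) : ℕ := mulW a b % 512

def comm? (a b : ℕ) : Bool := mulS a b == mulS b a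

/-- The image in the quotient by the abelian subgroup of order 64. -/
def mid (a : ℕ) : ℕ :=
  ((a >>> 1) &&& 1) ||| (((a >>> 2) &&& 1) <<< 1) ||| (((a >>> 5) &&& 1) <<< 2)

/-- A representative of a class. -/
def rep (m : ℕ) : ℕ := ((m &&& 1) <<< 1) ||| (((m >>> 1) &&& 1) <<< 2) ||| ((m >>> 2) <<< 5)

def ap (b : ℕ) : ℕ := look apTbl 9 b

def chiAux (s : ℕ) : ℕ → ℕ → Bool
  | 0, _ => false
  | f + 1, w => bif w % 5 == 0 then false else xor (s.testBit (w % 5 - 1)) (chiAux s f (w / 5))

/-- The homomorphism to the group of order two with value `s.testBit k` on the `k`th generator. -/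
def chi (s a : ℕ) : Bool := chiAux s 12 (word a)

/-- A set containing the centre of the kernel of `chi s`. -/
def centList (s : ℕ) : List ℕ :=
  (List.range 512).filter fun a =>
    !(chi s a) && (comm? a (testTbl.getD s (0, 0)).1 && comm? a (testTbl.getD s (0, 0)).2)

/-- The elements of the abelian subgroup of order 64. -/
def midZero : List ℕ := (List.range 512).filter fun a => mid a == 0

theorem mem_midZero {a : ℕ} : a ∈ midZero ↔ a < 512 ∧ mid a = 0 := by simp [midZero]

theorem mem_midZero_length : midZero.length = 64 := by decide +kernel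

theorem midZero_closed {a b : ℕ} (ha : a ∈ midZero) (hb : b ∈ midZero) :
    mid (mulS a b) = 0 ∧ mulS a b = mulS b a := by
  have h : (midZero.all fun a => midZero.all fun b =>
      mid (mulS a b) == 0 && mulS a b == mulS b a) = true := by decide +kernel
  simpa using List.all_eq_true.mp (List.all_eq_true.mp h a ha) b hb

theorem midZero_sq {a : ℕ} (ha : a ∈ midZero) : mulS a a = 0 := by
  have h : (midZero.all fun a => mulS a a == 0) = true := by decide +kernel
  exact beq_iff_eq.mp (List.all_eq_true.mp h a ha)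

theorem ap_spec {b : ℕ} (hb : b < 512) :
    ap b < 512 ∧ mid (ap b) = 0 ∧ rep (mid b) < 512 ∧ mid b < 8 ∧
      mulS (ap b) (rep (mid b)) = b := by
  have h : (all512 fun b => Nat.ble (ap b + 1) 512 && (mid (ap b) == 0 &&
      (Nat.ble (rep (mid b) + 1) 512 && (Nat.ble (mid b + 1) 8 &&
        mulS (ap b) (rep (mid b)) == b)))) = true := by decide +kernel
  have := of_all512 h hb
  simp only [Bool.and_eq_true, Nat.ble_eq, beq_iff_eq] at this
  omega

theorem centList_length {s : ℕ} (h0 : s ≠ 0) (hs : s < 16) : (centList s).length ≤ 8 := by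
  have h : ((List.range 16).all fun s => s == 0 || Nat.ble (centList s).length 8) = true := by
    decide +kernel
  simpa [h0] using of_all_range h hs

theorem test_chi {s : ℕ} (hs : s < 16) :
    (testTbl.getD s (0, 0)).1 < 512 ∧ (testTbl.getD s (0, 0)).2 < 512 ∧
      chi s (testTbl.getD s (0, 0)).1 = false ∧ chi s (testTbl.getD s (0, 0)).2 = false := by
  have h : ((List.range 16).all fun s => Nat.ble ((testTbl.getD s (0, 0)).1 + 1) 512 &&
      (Nat.ble ((testTbl.getD s (0, 0)).2 + 1) 512 && (!(chi s (testTbl.getD s (0, 0)).1) &&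
      !(chi s (testTbl.getD s (0, 0)).2)))) = true := by decide +kernel
  have := of_all_range h hs
  simp only [Bool.and_eq_true, Nat.ble_eq, Bool.not_eq_true'] at this
  exact ⟨this.1, this.2.1, this.2.2.1, this.2.2.2⟩

theorem cent_rep {m : ℕ} (h0 : m ≠ 0) (hm : m < 8) :
    (midZero.filter fun a => comm? a (rep m)).length ≤ 16 := by
  have h : ((List.range 8).all fun m =>
      m == 0 || Nat.ble (midZero.filter fun a => comm? a (rep m)).length 16) = true := by
    decide +kernel
  simpa [h0] using of_all_range h hm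

theorem cent_rep_rep {m n : ℕ} (h0 : m ≠ 0) (hm : m < 8) (n0 : n ≠ 0) (hn : n < 8)
    (hne : m ≠ n) :
    (midZero.filter fun a => comm? a (rep m) && comm? a (rep n)).length ≤ 8 := by
  have h : ((List.range 8).all fun m => (List.range 8).all fun n =>
      (m == 0 || (n == 0 || m == n)) ||
        Nat.ble (midZero.filter fun a => comm? a (rep m) && comm? a (rep n)).length 8) = true := by
    decide +kernel
  simpa [h0, n0, hne] using of_all_range (of_all_range h hm) hn

theorem not_comm_one_two {a b : ℕ} (ha : a < 512) (hb : b < 512) (h1 : mid a = 1)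
    (h2 : mid b = 2) : mulS a b ≠ mulS b a := by
  have h : (((List.range 512).filter fun a => mid a == 1).all fun a =>
      ((List.range 512).filter fun a => mid a == 2).all fun b => !(comm? a b)) = true := by
    decide +kernel
  have := List.all_eq_true.mp (List.all_eq_true.mp h a (by simp [ha, h1])) b (by simp [hb, h2])
  simpa [comm?] using this

theorem center_char {a : ℕ} (ha : a < 1024)
    (h : ∀ k < 4, mulW (2 ^ k) a = mulW a (2 ^ k)) : a = 0 ∨ a = 512 := by
  have hh : (all1024 fun a => !((List.range 4).all fun k => mulW (2 ^ k) a == mulW a (2 ^ k)) ||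
      (a == 0 || a == 512)) = true := by decide +kernel
  have h' : ((List.range 4).all fun k => mulW (2 ^ k) a == mulW a (2 ^ k)) = true :=
    List.all_eq_true.mpr fun k hk => by simpa using h k (List.mem_range.mp hk)
  simpa [h'] using of_all1024 hh ha

/-- A numbering of a group by the numbers below 512, compatible with `mulS`. -/
structure Coord {S : Type*} [Group S] (ψ : ℕ → S) : Prop where
  map_zero : ψ 0 = 1
  mul : ∀ a < 512, ∀ b < 512, ψ (mulS a b) = ψ a * ψ b
  inj : ∀ a < 512, ∀ b < 512, ψ a = ψ b → a = b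
  surj : ∀ x, ∃ a < 512, ψ a = x
  step : ∀ a < 1024, ∀ k < 4, ψ (step a k) = ψ a * ψ (2 ^ k)

theorem coord (P : Sylow 2 ↥M24) :
    ∃ ψ : ℕ → ↥(P : Subgroup ↥M24) ⧸ Subgroup.center ↥(P : Subgroup ↥M24), Coord ψ := by
  obtain ⟨e, hmul, hinj, hsurj⟩ := exists_model P
  have he0 : e 0 = 1 := by
    have := hmul 0 (by norm_num) 0 (by norm_num)
    rw [mulW_zero_left (by norm_num)] at this
    exact mul_eq_left.mp this.symm
  have hc : e 512 ∈ Subgroup.center ↥(P : Subgroup ↥M24) := by
    have hh : (all1024 fun a => mulW a 512 == mulW 512 a) = true := by decide +kernel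
    rw [Subgroup.mem_center_iff]
    intro x
    obtain ⟨a, ha, rfl⟩ := hsurj x
    rw [← hmul a ha 512 (by norm_num), ← hmul 512 (by norm_num) a ha,
      beq_iff_eq.mp (of_all1024 hh ha)]
  have hcen : ∀ a < 1024, e a ∈ Subgroup.center ↥(P : Subgroup ↥M24) → a = 0 ∨ a = 512 := by
    intro a ha h
    refine center_char ha fun k hk => hinj _ (mulW_lt (two_pow_lt hk) a) _ (mulW_lt ha _) ?_
    rw [hmul _ (two_pow_lt hk) a ha, hmul a ha _ (two_pow_lt hk)]
    exact Subgroup.mem_center_iff.mp h _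
  let ψ : ℕ → ↥(P : Subgroup ↥M24) ⧸ Subgroup.center ↥(P : Subgroup ↥M24) := fun a => e a
  have hψmul : ∀ a < 1024, ∀ b < 1024, ψ (mulW a b) = ψ a * ψ b := fun a ha b hb => by
    simp only [ψ, hmul a ha b hb, QuotientGroup.mk_mul]
  have h512 : ψ 512 = 1 := (QuotientGroup.eq_one_iff _).mpr hc
  have hmod : ∀ a < 1024, ψ (a % 512) = ψ a := by
    have hh : (all1024 fun a => mulW (a % 512) (512 * (a / 512)) == a) = true := by
      decide +kernel
    intro a ha
    conv_rhs => rw [← beq_iff_eq.mp (of_all1024 hh ha)]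
    rw [hψmul _ (by omega) _ (by omega)]
    rcases (show a / 512 = 0 ∨ a / 512 = 1 by omega) with h | h
    · rw [h, show ψ (512 * 0) = 1 by simp [ψ, he0], mul_one]
    · rw [h, show ψ (512 * 1) = 1 from h512, mul_one]
  refine ⟨ψ, ⟨by simp [ψ, he0], ?_, ?_, ?_, ?_⟩⟩
  · intro a ha b hb
    rw [mulS, hmod _ (mulW_lt (by omega) b), hψmul a (by omega) b (by omega)]
  · intro a ha b hb h
    obtain ⟨c, hc', hce⟩ := hsurj ((e a)⁻¹ * e b)
    have hb' : b = mulW a c := hinj _ (by omega) _ (mulW_lt (by omega) c) (by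
      rw [hmul a (by omega) c hc', hce, mul_inv_cancel_left])
    rcases hcen c hc' (hce ▸ QuotientGroup.eq.mp h) with rfl | rfl
    · refine (hinj _ (by omega) _ (by omega) ?_).symm
      rw [hb', hmul a (by omega) 0 hc', he0, mul_one]
    · exfalso
      have hh : (all512 fun a => Nat.ble 512 (mulW a 512)) = true := by decide +kernel
      have := of_all512 hh ha
      rw [Nat.ble_eq, ← hb'] at this
      omega
  · intro x
    obtain ⟨y, rfl⟩ := QuotientGroup.mk_surjective x
    obtain ⟨a, ha, rfl⟩ := hsurj y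
    exact ⟨a % 512, Nat.mod_lt _ (by norm_num), hmod a ha⟩
  · intro a ha k hk
    rw [step_eq_mulW ha hk, hψmul a ha _ (two_pow_lt hk)]

variable {S : Type*} [Group S] {ψ : ℕ → S}

theorem Coord.natCard (h : Coord ψ) : Nat.card S = 2 ^ 9 := by
  rw [← Nat.card_eq_of_bijective (fun a : Fin 512 => ψ a)
    ⟨fun a b e => Fin.ext (h.inj _ a.2 _ b.2 e), fun x => by
      obtain ⟨a, ha, e⟩ := h.surj x
      exact ⟨⟨a, ha⟩, e⟩⟩, Nat.card_fin]
  norm_num

theorem Coord.comm_iff (h : Coord ψ) {a b : ℕ} (ha : a < 512) (hb : b < 512) :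
    Commute (ψ a) (ψ b) ↔ comm? a b = true := by
  rw [comm?, beq_iff_eq]
  constructor
  · intro e
    refine h.inj _ (Nat.mod_lt _ (by norm_num)) _ (Nat.mod_lt _ (by norm_num)) ?_
    show ψ (mulS a b) = ψ (mulS b a)
    rw [h.mul a ha b hb, h.mul b hb a ha]
    exact e
  · intro e
    show ψ a * ψ b = ψ b * ψ a
    rw [← h.mul a ha b hb, ← h.mul b hb a ha, e]

/-- The numbers of the elements of a subset. -/
noncomputable def Coord.nums (_h : Coord ψ) (B : Subgroup S) : Finset ℕ := by
  classical exact (Finset.range 512).filter fun a => ψ a ∈ B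

theorem Coord.mem_nums (h : Coord ψ) {B : Subgroup S} {a : ℕ} :
    a ∈ h.nums B ↔ a < 512 ∧ ψ a ∈ B := by simp [Coord.nums]

theorem Coord.card_nums (h : Coord ψ) (B : Subgroup S) : (h.nums B).card = Nat.card ↥B := by
  rw [← Nat.card_eq_finsetCard]
  refine Nat.card_eq_of_bijective (fun a => ⟨ψ a.1, (h.mem_nums.mp a.2).2⟩) ⟨?_, ?_⟩
  · intro a b e
    exact Subtype.ext (h.inj _ (h.mem_nums.mp a.2).1 _ (h.mem_nums.mp b.2).1
      (congrArg Subtype.val e))
  · rintro ⟨x, hx⟩
    obtain ⟨a, ha, rfl⟩ := h.surj x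
    exact ⟨⟨a, h.mem_nums.mpr ⟨ha, hx⟩⟩, rfl⟩

theorem Coord.mem_iff_chi (h : Coord ψ) {M : Subgroup S} (hM : M.index = 2) {s : ℕ}
    (hs : ∀ k < 4, s.testBit k = false ↔ ψ (2 ^ k) ∈ M) {a : ℕ} (ha : a < 1024) :
    ψ a ∈ M ↔ chi s a = false := by
  have key : ∀ (f a w : ℕ), a < 1024 →
      (ψ (run f a w) ∈ M ↔ (ψ a ∈ M ↔ chiAux s f w = false)) := by
    intro f
    induction f with
    | zero => intro a w _; simp [run, chiAux]
    | succ f ih =>
      intro a w ha
      cases hw : w % 5 == 0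
      · simp only [run, chiAux, hw, cond_false]
        rw [ih _ _ (step_lt ha digit_lt), h.step a ha _ digit_lt,
          Subgroup.mul_mem_iff_of_index_two hM, ← hs _ digit_lt]
        cases s.testBit (w % 5 - 1) <;> cases chiAux s f (w / 5) <;> simp
      · simp [run, chiAux, hw]
  have := key 12 0 (word a) (by norm_num)
  rw [run_word ha] at this
  simpa [h.map_zero, one_mem, chi] using this

theorem Coord.coatom_center_le (h : Coord ψ) {M : Subgroup S} (hM : IsCoatom M) :
    Nat.card ↥(Subgroup.center ↥M) ≤ 8 := by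
  classical
  haveI : Fact (Nat.Prime 2) := ⟨Nat.prime_two⟩
  haveI : Finite S := Nat.finite_of_card_ne_zero (by rw [h.natCard]; norm_num)
  have hidx : M.index = 2 := BurnsideBasis.coatom_index (IsPGroup.of_card h.natCard) hM
  let s := (if ψ (2 ^ 0) ∈ M then 0 else 1) + (if ψ (2 ^ 1) ∈ M then 0 else 2)
    + (if ψ (2 ^ 2) ∈ M then 0 else 4) + (if ψ (2 ^ 3) ∈ M then 0 else 8)
  have hs : s < 16 := by simp only [s]; split_ifs <;> norm_num
  have hbit : ∀ k < 4, s.testBit k = false ↔ ψ (2 ^ k) ∈ M := by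
    intro k hk
    simp only [s]
    interval_cases k <;> split_ifs <;> simp_all (config := {decide := true})
  have hs0 : s ≠ 0 := by
    intro h0
    have hz : ∀ f w, chiAux 0 f w = false := by
      intro f
      induction f with
      | zero => intro w; rfl
      | succ f ih => intro w; simp [chiAux, ih]
    refine hM.1 (eq_top_iff.mpr fun x _ => ?_)
    obtain ⟨a, ha, rfl⟩ := h.surj x
    rw [h.mem_iff_chi hidx hbit (by omega), h0]
    exact hz _ _
  obtain ⟨ht1, ht2, hc1, hc2⟩ := test_chi hs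
  have hsub : ∀ z : ↥(Subgroup.center ↥M), ∃ a ∈ (centList s).toFinset, ψ a = z.1.1 := by
    rintro ⟨⟨x, hxM⟩, hz⟩
    obtain ⟨a, ha, rfl⟩ := h.surj x
    refine ⟨a, ?_, rfl⟩
    have hcomm : ∀ t < 512, chi s t = false → comm? a t = true := fun t ht hct =>
      (h.comm_iff ha ht).mp (congrArg Subtype.val (Subgroup.mem_center_iff.mp hz
        ⟨ψ t, (h.mem_iff_chi hidx hbit (by omega)).mpr hct⟩)).symm
    refine List.mem_toFinset.mpr (List.mem_filter.mpr ⟨List.mem_range.mpr ha, ?_⟩)
    rw [(h.mem_iff_chi hidx hbit (show a < 1024 by omega)).mp hxM, hcomm _ ht1 hc1,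
      hcomm _ ht2 hc2]
    rfl
  choose g hg hgψ using hsub
  calc Nat.card ↥(Subgroup.center ↥M)
      ≤ Nat.card ↥(centList s).toFinset :=
        Nat.card_le_card_of_injective (fun z => ⟨g z, hg z⟩) fun z w e => by
          have := congrArg (fun a : ↥(centList s).toFinset => ψ a.1) e
          simp only [hgψ] at this
          exact Subtype.ext (Subtype.ext this)
    _ ≤ 8 := by
        rw [Nat.card_eq_finsetCard]
        exact (List.toFinset_card_le _).trans (centList_length hs0 hs)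

theorem Coord.exists_abelian64 (h : Coord ψ) :
    ∃ A : Subgroup S, Cfsg.IsElementaryAbelian 2 A ∧ Nat.card ↥A = 64 ∧
      ∀ a < 512, ψ a ∈ A ↔ mid a = 0 := by
  classical
  have hsq : ∀ a ∈ midZero, ψ a * ψ a = 1 := fun a ha => by
    rw [← h.mul a (mem_midZero.mp ha).1 a (mem_midZero.mp ha).1, midZero_sq ha, h.map_zero]
  let A : Subgroup S :=
    { carrier := {x | ∃ a ∈ midZero, ψ a = x}
      mul_mem' := by
        rintro _ _ ⟨a, ha, rfl⟩ ⟨b, hb, rfl⟩
        exact ⟨mulS a b, mem_midZero.mpr ⟨Nat.mod_lt _ (by norm_num), (midZero_closed ha hb).1⟩,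
          h.mul a (mem_midZero.mp ha).1 b (mem_midZero.mp hb).1⟩
      one_mem' := ⟨0, mem_midZero.mpr ⟨by norm_num, rfl⟩, h.map_zero⟩
      inv_mem' := by
        rintro _ ⟨a, ha, rfl⟩
        exact ⟨a, ha, eq_inv_of_mul_eq_one_left (hsq a ha)⟩ }
  have hmem : ∀ a < 512, ψ a ∈ A ↔ mid a = 0 := by
    intro a ha
    constructor
    · rintro ⟨b, hb, e⟩
      rw [← h.inj _ (mem_midZero.mp hb).1 _ ha e]
      exact (mem_midZero.mp hb).2
    · exact fun hm => ⟨a, mem_midZero.mpr ⟨ha, hm⟩, rfl⟩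
  refine ⟨A, ⟨⟨⟨?_⟩⟩, ?_⟩, ?_, hmem⟩
  · rintro ⟨_, a, ha, rfl⟩ ⟨_, b, hb, rfl⟩
    refine Subtype.ext ?_
    show ψ a * ψ b = ψ b * ψ a
    rw [← h.mul a (mem_midZero.mp ha).1 b (mem_midZero.mp hb).1,
      ← h.mul b (mem_midZero.mp hb).1 a (mem_midZero.mp ha).1, (midZero_closed ha hb).2]
  · rintro _ ⟨a, ha, rfl⟩
    rw [pow_two]
    exact hsq a ha
  · have : h.nums A = midZero.toFinset := by
      ext a
      simp only [h.mem_nums, List.mem_toFinset, mem_midZero]
      exact ⟨fun ⟨ha, hA⟩ => ⟨ha, (hmem a ha).mp hA⟩, fun ⟨ha, hm⟩ => ⟨ha, (hmem a ha).mpr hm⟩⟩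
    rw [← h.card_nums A, this, List.toFinset_card_of_nodup (show midZero.Nodup from List.nodup_range.filter _),
      mem_midZero_length]

theorem Coord.abelian64_subset (h : Coord ψ) {B : Subgroup S} (hB : IsMulCommutative ↥B)
    (hcard : Nat.card ↥B = 64) : ∀ a ∈ h.nums B, mid a = 0 := by
  classical
  set N := h.nums B with hN
  have hNc : N.card = 64 := by rw [hN, h.card_nums, hcard]
  have hcm : ∀ a ∈ N, ∀ b ∈ N, Commute (ψ a) (ψ b) := fun a ha b hb =>
    congrArg Subtype.val (hB.is_comm.comm (⟨ψ a, (h.mem_nums.mp ha).2⟩ : ↥B)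
      ⟨ψ b, (h.mem_nums.mp hb).2⟩)
  by_contra hne
  push Not at hne
  set F : ℕ → Finset ℕ := fun m => N.filter fun a => mid a = m with hF
  set I : Finset ℕ := (Finset.range 8).filter fun m => (F m).Nonempty with hI
  have hfib : ∀ m, (F m).card ≤ (F 0).card := by
    intro m
    rcases (F m).eq_empty_or_nonempty with e | ⟨b0, hb0⟩
    · simp [e]
    obtain ⟨hb0N, hb0m⟩ := Finset.mem_filter.mp hb0
    obtain ⟨ha0, hm0, hr, -, he0⟩ := ap_spec (h.mem_nums.mp hb0N).1
    refine Finset.card_le_card_of_injOn (fun b => mulS (ap b) (ap b0)) ?_ ?_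
    · intro b hb
      obtain ⟨hbN, hbm⟩ := Finset.mem_filter.mp hb
      obtain ⟨hab, hmb, -, -, he⟩ := ap_spec (h.mem_nums.mp hbN).1
      have hz := (midZero_closed (mem_midZero.mpr ⟨hab, hmb⟩)
        (mem_midZero.mpr ⟨ha0, hm0⟩)).1
      refine Finset.mem_filter.mpr ⟨h.mem_nums.mpr ⟨Nat.mod_lt _ (by norm_num), ?_⟩, hz⟩
      have e1 : ψ b = ψ (ap b) * ψ (rep m) := by
        rw [← hbm, ← h.mul _ hab _ (ap_spec (h.mem_nums.mp hbN).1).2.2.1, he]
      have e2 : ψ b0 = ψ (ap b0) * ψ (rep m) := by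
        rw [← hb0m, ← h.mul _ ha0 _ hr, he0]
      have hinv : (ψ (ap b0))⁻¹ = ψ (ap b0) := by
        refine inv_eq_of_mul_eq_one_right ?_
        rw [← h.mul _ ha0 _ ha0, midZero_sq (mem_midZero.mpr ⟨ha0, hm0⟩), h.map_zero]
      have : ψ (mulS (ap b) (ap b0)) = ψ b * (ψ b0)⁻¹ := by
        rw [h.mul _ hab _ ha0, e1, e2, mul_inv_rev, hinv]
        group
      rw [this]
      exact mul_mem (h.mem_nums.mp hbN).2 (inv_mem (h.mem_nums.mp hb0N).2)
    · intro b hb c hc e
      obtain ⟨hbN, hbm⟩ := Finset.mem_filter.mp hb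
      obtain ⟨hcN, hcm'⟩ := Finset.mem_filter.mp hc
      obtain ⟨hab, -, -, -, heb⟩ := ap_spec (h.mem_nums.mp hbN).1
      obtain ⟨hac, -, -, -, hec⟩ := ap_spec (h.mem_nums.mp hcN).1
      have := congrArg ψ e
      simp only [h.mul _ hab _ ha0, h.mul _ hac _ ha0, mul_left_inj] at this
      rw [← heb, ← hec, hbm, hcm', h.inj _ hab _ hac this]
  have hcentral : ∀ m ∈ I, ∀ a ∈ F 0, comm? a (rep m) = true := by
    intro m hm a ha
    obtain ⟨b, hb⟩ := (Finset.mem_filter.mp hm).2
    obtain ⟨hbN, hbm⟩ := Finset.mem_filter.mp hb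
    obtain ⟨haN, ha0⟩ := Finset.mem_filter.mp ha
    obtain ⟨hab, hmb, hr, -, he⟩ := ap_spec (h.mem_nums.mp hbN).1
    have hal := (h.mem_nums.mp haN).1
    rw [← hbm]
    refine (h.comm_iff hal hr).mp ?_
    have e1 : ψ (rep (mid b)) = (ψ (ap b))⁻¹ * ψ b := by
      rw [eq_inv_mul_iff_mul_eq, ← h.mul _ hab _ hr, he]
    rw [e1]
    refine Commute.mul_right (Commute.inv_right ?_) (hcm a haN b hbN)
    exact (h.comm_iff hal hab).mpr (beq_iff_eq.mpr (midZero_closed
      (mem_midZero.mpr ⟨hal, ha0⟩) (mem_midZero.mpr ⟨hab, hmb⟩)).2)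
  have hF0 : F 0 ⊆ midZero.toFinset := fun a ha => List.mem_toFinset.mpr
    (mem_midZero.mpr ⟨(h.mem_nums.mp (Finset.mem_filter.mp ha).1).1, (Finset.mem_filter.mp ha).2⟩)
  have hsum : N.card ≤ I.card * (F 0).card := by
    refine (Finset.card_le_mul_card_image_of_maps_to (f := mid) (t := I) ?_ _
      (fun m _ => hfib m)).trans_eq (mul_comm _ _)
    intro a ha
    exact Finset.mem_filter.mpr ⟨Finset.mem_range.mpr (ap_spec (h.mem_nums.mp ha).1).2.2.2.1,
      a, Finset.mem_filter.mpr ⟨ha, rfl⟩⟩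
  have hI7 : I.card ≤ 7 := by
    by_contra hc
    have hIeq : I = Finset.range 8 :=
      Finset.eq_of_subset_of_card_le (Finset.filter_subset _ _) (by rw [Finset.card_range]; omega)
    obtain ⟨a, ha⟩ := (Finset.mem_filter.mp (show 1 ∈ I by rw [hIeq]; simp)).2
    obtain ⟨b, hb⟩ := (Finset.mem_filter.mp (show 2 ∈ I by rw [hIeq]; simp)).2
    obtain ⟨haN, ha1⟩ := Finset.mem_filter.mp ha
    obtain ⟨hbN, hb2⟩ := Finset.mem_filter.mp hb
    have hal := (h.mem_nums.mp haN).1
    have hbl := (h.mem_nums.mp hbN).1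
    exact not_comm_one_two hal hbl ha1 hb2
      (beq_iff_eq.mp ((h.comm_iff hal hbl).mp (hcm a haN b hbN)))
  obtain ⟨a, haN, ham⟩ := hne
  have ham8 : mid a < 8 := (ap_spec (h.mem_nums.mp haN).1).2.2.2.1
  have hmI : mid a ∈ I :=
    Finset.mem_filter.mpr ⟨Finset.mem_range.mpr ham8, a, Finset.mem_filter.mpr ⟨haN, rfl⟩⟩
  by_cases h2 : ∃ n ∈ I, n ≠ 0 ∧ n ≠ mid a
  · obtain ⟨n, hn, hn0, hnm⟩ := h2
    have hle : (F 0).card ≤ 8 := by
      refine le_trans (Finset.card_le_card (t := (midZero.filter fun x =>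
        comm? x (rep (mid a)) && comm? x (rep n)).toFinset) ?_)
        ((List.toFinset_card_le _).trans (cent_rep_rep ham ham8 hn0
          (Finset.mem_range.mp (Finset.mem_filter.mp hn).1) (Ne.symm hnm)))
      intro x hx
      simp only [List.mem_toFinset, List.mem_filter, hcentral _ hmI x hx, hcentral _ hn x hx]
      exact ⟨List.mem_toFinset.mp (hF0 hx), rfl⟩
    nlinarith
  · push Not at h2
    have hI2 : I.card ≤ 2 := (Finset.card_le_card (t := {0, mid a}) fun n hn => by
      simp only [Finset.mem_insert, Finset.mem_singleton]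
      by_cases hn0 : n = 0
      · exact Or.inl hn0
      · exact Or.inr (h2 n hn hn0)).trans Finset.card_le_two
    have hle : (F 0).card ≤ 16 := by
      refine le_trans (Finset.card_le_card (t := (midZero.filter fun x =>
        comm? x (rep (mid a))).toFinset) ?_) ((List.toFinset_card_le _).trans (cent_rep ham ham8))
      intro x hx
      simp only [List.mem_toFinset, List.mem_filter, hcentral _ hmI x hx]
      exact ⟨List.mem_toFinset.mp (hF0 hx), trivial⟩
    nlinarith

theorem Coord.abelian64_unique (h : Coord ψ) {A B : Subgroup S} (hA : IsMulCommutative ↥A)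
    (hAc : Nat.card ↥A = 64) (hB : IsMulCommutative ↥B) (hBc : Nat.card ↥B = 64) : A = B := by
  haveI : Finite S := Nat.finite_of_card_ne_zero (by rw [h.natCard]; norm_num)
  obtain ⟨A0, -, hc, hm⟩ := h.exists_abelian64
  have key : ∀ B : Subgroup S, IsMulCommutative ↥B → Nat.card ↥B = 64 → B = A0 := by
    intro B hB hBc
    refine Subgroup.eq_of_le_of_card_ge (fun x hx => ?_) (by rw [hc, hBc])
    obtain ⟨a, ha, rfl⟩ := h.surj x
    exact (hm a ha).mpr (h.abelian64_subset hB hBc a (h.mem_nums.mpr ⟨ha, hx⟩))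
  rw [key A hA hAc, key B hB hBc]

end Cfsg.Agent.M24Sylow
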